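import Cfsg.Agent.HN.SlpWords
import Cfsg.Agent.Lib.PackCol
import Cfsg.Agent.FastGrp
import Cfsg.Agent.Prune
set_option linter.all false
open scoped Cfsg.Agent.FastGrp

/-!
# A strongly real element of order 25 in the Harada-Norton group

`exists_order` : the presented Harada-Norton group has an involution `b` and a conjugate `c` of `b` with `b * c` of
order 25 (checked by a straight line program in the 133-dimensional representation over the field with 31 elements;
`b = x² y³` and `c` is its conjugate by `z y⁻¹ z t`).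
-/

set_option autoImplicit false

namespace Cfsg.Agent.H525.RO.HnElt

open Cfsg.Agent.Lib.PackMat Cfsg.Agent.Lib.PackMatGroup Cfsg.Agent.Lib.PackMatMul Cfsg.Agent.HN.RepData
open Cfsg.Agent.HN
open Cfsg.Agent.HN.Rep (L LG gens rho)

/-- straight line program (newest first): `b`, `b²`, `c`, `r = b c`, `r²`, `r⁵`, `r¹⁰`, `r²⁵`, `1` -/
def ws : List (ℕ × List ℕ) :=
  [(0, [0, 2, 2, 2]), (0, [0]), (9, [7, 4, 7, 1, 6, 5, 6, 8]), (2, [0]), (0, [0]), (0, [0, 1]), (0, [0]), (0, [0, 1]),
    (8, [9])]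

set_option Elab.async false in
theorem check : checkS C ws [(1, 0), (7, 0)] [(3, 0)] L = true := by (rewrite [show @Cfsg.Agent.Lib.PackMatMul.checkS = delta% @Cfsg.Agent.Lib.PackMatMul.checkS from by delta Cfsg.Agent.Lib.PackMatMul.checkS; rfl, Cfsg.Agent.Lib.PackCol.withM_col]; decide +kernel)

theorem sound : (∀ q ∈ [(1, 0), (7, 0)], (runG ws LG).getD q.1 1 = (runG ws LG).getD q.2 1) ∧
    (∀ q ∈ [(3, 0)], (runG ws LG).getD q.1 1 ≠ (runG ws LG).getD q.2 1) :=
  checkS_sound (good_of_check Rep.good) A12Group.codesR check (by decide +kernel)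

theorem rho_run (i : ℕ) : rho ((runG ws gens).getD i 1) = (runG ws LG).getD i 1 := by
  rw [← Rep.gens_map, runG_map, List.getD_eq_getElem?_getD, List.getD_eq_getElem?_getD, List.getElem?_map]
  cases (runG ws gens)[i]? with
  | none => simp
  | some b => simp

/-- `b` -/
noncomputable def b : Cfsg.Spor.HN := Rep.x * (Rep.x * (Rep.y * (Rep.y * (Rep.y * 1))))

/-- the conjugating element -/
noncomputable def g : Cfsg.Spor.HN := Rep.z * Rep.y⁻¹ * Rep.z * Rep.t

/-- `r = b * c` -/
noncomputable def r : Cfsg.Spor.HN := b * (g⁻¹ * b * g)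

theorem run_eq : (runG ws gens).getD 5 1 = r ∧ (runG ws gens).getD 3 1 = r ^ 5 ∧ (runG ws gens).getD 1 1 = r ^ 25 ∧
    (runG ws gens).getD 7 1 = b * b ∧ (runG ws gens).getD 0 1 = 1 := by
  simp only [ws, runG_cons, runG_nil, evG_cons, evG_nil, gens, List.getD_cons_zero, List.getD_cons_succ]
  rw [show Rep.x * (Rep.x * (Rep.y * (Rep.y * (Rep.y * 1)))) = b from rfl]
  have hr : b * ((Rep.t⁻¹ * (Rep.z⁻¹ * (Rep.y * (Rep.z⁻¹ * (b * (Rep.z * (Rep.y⁻¹ * (Rep.z * (Rep.t * 1))))))))) * 1)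
      = r := by
    unfold r g
    group
  rw [hr]
  refine ⟨rfl, ?_, ?_, ?_, ?_⟩
  · simp only [pow_succ, pow_zero, one_mul, mul_one, mul_assoc]
  · simp only [pow_succ, pow_zero, one_mul, mul_one, mul_assoc]
  · rw [mul_one]
  · rw [mul_one, mul_inv_cancel]

theorem b_sq [IsSimpleGroup Cfsg.Spor.HN] : b * b = 1 := by
  apply A12Group.rho_injective
  have h7 := rho_run 7
  have h0 := rho_run 0
  rw [run_eq.2.2.2.1] at h7
  rw [run_eq.2.2.2.2] at h0
  exact h7.trans ((sound.1 (7, 0) (by simp)).trans h0.symm)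

theorem r_pow [IsSimpleGroup Cfsg.Spor.HN] : r ^ 25 = 1 := by
  apply A12Group.rho_injective
  have h7 := rho_run 1
  have h0 := rho_run 0
  rw [run_eq.2.2.1] at h7
  rw [run_eq.2.2.2.2] at h0
  exact h7.trans ((sound.1 (1, 0) (by simp)).trans h0.symm)

theorem r_ne : r ^ 5 ≠ 1 := by
  intro h
  refine sound.2 (3, 0) (by simp) ?_
  have h1 := rho_run 3
  have h2 := rho_run 0
  rw [run_eq.2.1, h] at h1
  rw [run_eq.2.2.2.2] at h2
  exact h1.symm.trans h2

theorem orderOf_r [IsSimpleGroup Cfsg.Spor.HN] : orderOf r = 25 := by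
  have : Fact (Nat.Prime 5) := ⟨by norm_num⟩
  have h := orderOf_eq_prime_pow (x := r) (p := 5) (n := 1) (by rw [pow_one]; exact r_ne)
    (by norm_num; exact r_pow)
  simpa using h

/-- `b` is an involution, `r = b * b^g` has order 25. -/
theorem exists_order [IsSimpleGroup Cfsg.Spor.HN] : ∃ b g : Cfsg.Spor.HN, b * b = 1 ∧
    orderOf (b * (g⁻¹ * b * g)) = 25 := ⟨b, g, b_sq, orderOf_r⟩

end Cfsg.Agent.H525.RO.HnElt

private theorem dce_4addbb2dd01d : _root_.True := by
  try have : _root_.True := by simp only [_root_.Cfsg.Agent.H525.RO.HnElt.ws.eq_1]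
  exact _root_.True.intro
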